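import Cfsg.Agent.Lib.Compute.Schur.Tails
import Cfsg.Agent.Lib.Compute.Schur.Vec
import Cfsg.Agent.Lib.Compute.Simple
import Cfsg.Agent.Lib.Schur.Hopf

/-!
# Certificate bounding the `p`-part of a Schur multiplier

For a certified group, a power-conjugate presentation of a Sylow `p`-subgroup and linear equations
between its tails (associativity of two evaluations, fusion of commuting pairs) show that in every
central extension the `p`-elements of kernel and derived subgroup are powers of one element.
-/

set_option autoImplicit false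

namespace Cfsg.Agent.Lib.Compute.Schur

open scoped commutatorElement

/-- Sources of equations. -/
inductive Eqn
  | cons (u v x : List ℕ)
  | fus (a b a' b' g : List ℕ)

/-- The certificate. -/
structure SchurCert where
  R : PcData
  paths : List (List ℕ)
  X : List (ℕ × ℕ)
  chainP : List Lvl
  eqns : List (Eqn × List ℤ)
  L : List (List ℤ)
  T : List ℤ
  r : ℕ
  rT : List ℤ
  units : List (List ℤ × List ℤ × ℤ)

/-- The rules in the order of their tails. -/
def rulePairs (k : ℕ) : List (ℕ × ℕ) :=
  (List.range k).flatMap fun i => (List.range (i + 1)).map fun j => (i, j)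

/-- Code of the product of letters. -/
noncomputable def codeW (O : Ops) (X : List (ℕ × ℕ)) : List ℕ → ℕ
  | [] => O.one
  | i :: u => forceNat (codeW O X u) fun r => O.mul (X.getD i (O.one, O.one)).1 r

/-- Degree component `c` of tail `n`. -/
def degTail (R : PcData) (n c : ℕ) : ℤ :=
  match (rulePairs R.k)[n]? with
  | none => 0
  | some (i, j) =>
    (bif Nat.beq c i then (bif Nat.beq i j then (R.p : ℤ) else 1) else 0) - ((R.rhs i j).count c : ℤ)

/-- Equality of lists of numbers. -/
def natListEq : List ℕ → List ℕ → Bool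
  | [], [] => true
  | a :: u, b :: v => Nat.beq a b && natListEq u v
  | _, _ => false

theorem natListEq_eq : ∀ {u v : List ℕ}, natListEq u v = true → u = v
  | [], [], _ => rfl
  | [], _ :: _, h => by simp [natListEq] at h
  | _ :: _, [], h => by simp [natListEq] at h
  | a :: u, b :: v, h => by
    simp only [natListEq, Bool.and_eq_true] at h
    rw [Nat.eq_of_beq_eq_true h.1, natListEq_eq h.2]

/-- The row read off from two derivations. -/
def rowOK (pos neg : List ℕ) (row : List ℤ) : Bool :=
  eqV (addV (natV pos) (smulV (-1) (natV neg))) row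

/-- Check of one equation. -/
noncomputable def eqnCheck (O : Ops) (L : List Lvl) (R : PcData) (X : List (ℕ × ℕ)) :
    Eqn × List ℤ → Bool
  | (.cons u v x, row) =>
    match ev R u [], ev R v [], ev R u x, ev R v x with
    | (a, v1), (a', v2), (b, u1), (b', u2) =>
      natListEq a a' && natListEq b b' && rowOK (u1 ++ v2) (u2 ++ v1) row
  | (.fus a b a' b' g, row) =>
    forceNat (pathEval O L g).1 fun c =>
      Nat.beq (O.mul c (codeW O X a)) (O.mul (codeW O X a') c) &&
      Nat.beq (O.mul c (codeW O X b)) (O.mul (codeW O X b') c) &&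
      match ev R a b, ev R b a, ev R a' b', ev R b' a' with
      | (e1, u1), (e2, u2), (f1, w1), (f2, w2) =>
        natListEq e1 e2 && natListEq f1 f2 && rowOK (u1 ++ w2) (u2 ++ w1) row

/-- Presentation part of the check. -/
noncomputable def presCheck (O : Ops) (L : List Lvl) (A : SchurCert) : Bool :=
  Nat.blt 1 A.R.p && Nat.beq A.X.length A.R.k &&
  pairsEq (A.paths.map (pathEval O L)) A.X &&
  chainCheck O A.X A.chainP && Nat.beq (chainSize A.chainP) (A.R.p ^ A.R.k) &&
  Nat.beq (chainSize L % A.R.p ^ A.R.k) 0 && !Nat.beq (chainSize L / A.R.p ^ A.R.k % A.R.p) 0 &&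
  ((List.range A.R.k).all fun i => (List.range (i + 1)).all fun j =>
    ((A.R.rhs i j).all fun a => Nat.blt j a && Nat.blt a A.R.k) &&
    (match (rulePairs A.R.k)[tix i j]? with
      | none => false
      | some q => Nat.beq q.1 i && Nat.beq q.2 j) &&
    bif Nat.beq i j then
      Nat.beq (codeW O A.X (List.replicate A.R.p i)) (codeW O A.X (A.R.rhs i i))
    else Nat.beq (codeW O A.X [i, j]) (codeW O A.X (j :: A.R.rhs i j)))

/-- Equation part of the check. -/
noncomputable def eqnsCheck (O : Ops) (L : List Lvl) (A : SchurCert) : Bool :=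
  A.eqns.all (eqnCheck O L A.R A.X)

/-- Linear part of the check. -/
def linCheck (A : SchurCert) : Bool :=
  let rows := A.eqns.map Prod.snd
  Nat.beq A.L.length A.R.k && Nat.beq A.units.length (rulePairs A.R.k).length && Nat.blt 0 A.r &&
  ((List.range A.units.length).all fun n =>
    match A.units[n]? with
    | none => false
    | some (cs, ms, b) => eqV (addV (combo cs rows) (addV (combo ms A.L) (smulV b A.T))) (unitV n)) &&
  eqV (combo A.rT rows) (smulV (A.r : ℤ) A.T) &&
  ((List.range A.R.k).all fun c => decide (evalV (fun n => degTail A.R n c) A.T = 0)) &&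
  ((List.range A.R.k).all fun l => (List.range (l + 1)).all fun c =>
    decide ((evalV (fun n => degTail A.R n c) (A.L.getD l []) = 0) ↔ c < l))

section Sound

variable {G : Type*} [Group G] {O : Ops} (C : Coding G O) [Finite G]
variable {Γ : Type*} [Group Γ]

/-- In every central extension of the certified group, the `p`-elements of kernel and derived subgroup
are powers of one element whose `r`-th power is one. -/
theorem exists_generator {S : List (ℕ × ℕ)} (hS : GensOK C S) {L : List Lvl}
    (hL : chainCheck O S L = true) {A : SchurCert} (hp : A.R.p.Prime)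
    (h1 : presCheck O L A = true) (h2 : eqnsCheck O L A = true) (h3 : linCheck A = true)
    (σ : Γ →* genGroup C S) (hσ : Function.Surjective σ) (hc : σ.ker ≤ Subgroup.center Γ) :
    ∃ a : Γ, a ^ A.r = 1 ∧ ∀ x ∈ σ.ker ⊓ commutator Γ, ∀ m : ℕ, x ^ A.R.p ^ m = 1 →
      x ∈ Subgroup.zpowers a := by
  haveI := Fact.mk hp
  simp only [presCheck, Bool.and_eq_true, List.all_eq_true, List.mem_range] at h1
  obtain ⟨⟨⟨⟨⟨⟨⟨-, hlen⟩, hpaths⟩, hchP⟩, hszP⟩, hdvd⟩, hndvd⟩, hrules⟩ := h1
  have hlen := Nat.eq_of_beq_eq_true hlen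
  have hpaths := pairsEq_eq hpaths
  let one2 : ℕ × ℕ := (O.one, O.one)
  have hX : ∀ q ∈ A.X, PairOK C (genGroup C S) q := by
    intro q hq
    rw [← hpaths] at hq
    obtain ⟨xs, -, rfl⟩ := List.mem_map.1 hq
    exact pairOK_pathEval C hS hL xs
  have hgi : ∀ i, ∃ g : genGroup C S, C.enc (g : G) = (A.X.getD i one2).1 := by
    intro i
    by_cases hi : i < A.X.length
    · rw [List.getD_eq_getElem _ _ hi]
      obtain ⟨g, hg, e, -⟩ := hX _ (List.getElem_mem hi)
      exact ⟨⟨g, hg⟩, e⟩
    · rw [List.getD_eq_default _ _ (by omega)]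
      exact ⟨1, C.one_enc⟩
  choose g hg using hgi
  choose s hs using fun i => hσ (g i)
  let π : Γ × Multiplicative (ℕ → ℤ) →* G :=
    ((genGroup C S).subtype.comp σ).comp (MonoidHom.fst _ _)
  let t : ℕ → Γ × Multiplicative (ℕ → ℤ) := fun i =>
    (s i, if i < A.R.k then Multiplicative.ofAdd (Pi.single i 1) else 1)
  have hπt : ∀ i, C.enc (π (t i)) = (A.X.getD i one2).1 := fun i => by
    simp [π, t, hs, hg]
  have hcode : ∀ u : List ℕ, C.enc (π (prodT t u)) = codeW O A.X u := by
    intro u
    induction u with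
    | nil => simp [prodT, codeW, C.one_enc]
    | cons i u ih => rw [prodT_cons, map_mul, ← C.mul_enc, ih, hπt, codeW, forceNat_eq]
  have hker : ∀ y, π y = 1 → y ∈ Subgroup.center (Γ × Multiplicative (ℕ → ℤ)) := by
    intro y hy
    have h' : σ y.1 = 1 := Subtype.ext (by simpa [π] using hy)
    rw [Subgroup.mem_center_iff]
    intro x
    exact Prod.ext (Subgroup.mem_center_iff.1 (hc h') x.1) (mul_comm _ _)
  -- the tails
  let z : ℕ → Γ × Multiplicative (ℕ → ℤ) := fun n =>
    match (rulePairs A.R.k)[n]? with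
    | none => 1
    | some (i, j) =>
      if i = j then (prodT t (A.R.rhs i i))⁻¹ * t i ^ A.R.p
      else (t j * prodT t (A.R.rhs i j))⁻¹ * (t i * t j)
  have hpairs : ∀ (n : ℕ) (q : ℕ × ℕ), (rulePairs A.R.k)[n]? = some q → q.2 ≤ q.1 ∧ q.1 < A.R.k := by
    intro n q hq
    have := List.mem_of_getElem? hq
    simp only [rulePairs, List.mem_flatMap, List.mem_range, List.mem_map] at this
    obtain ⟨i, hi, j, hj, rfl⟩ := this
    exact ⟨by omega, hi⟩
  have hrule : ∀ i j, j ≤ i → i < A.R.k →
      (∀ a ∈ A.R.rhs i j, j < a ∧ a < A.R.k) ∧ (rulePairs A.R.k)[tix i j]? = some (i, j) ∧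
      (if i = j then π (t i ^ A.R.p) = π (prodT t (A.R.rhs i i))
        else π (t i * t j) = π (t j * prodT t (A.R.rhs i j))) := by
    intro i j hj hi
    obtain ⟨⟨ha, hq⟩, he⟩ := hrules i hi j (by omega)
    refine ⟨fun a h => by simpa [Nat.blt_eq] using ha a h, ?_, ?_⟩
    · revert hq
      cases (rulePairs A.R.k)[tix i j]? with
      | none => simp
      | some q =>
        intro hq
        simp only [Bool.and_eq_true] at hq
        rw [← Nat.eq_of_beq_eq_true hq.1, ← Nat.eq_of_beq_eq_true hq.2]
    · by_cases hij : i = j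
      · subst hij
        rw [if_pos rfl]
        rw [show Nat.beq i i = true from Nat.beq_refl i, cond_true] at he
        apply C.inj
        rw [← prodT_replicate, hcode, hcode]
        exact Nat.eq_of_beq_eq_true he
      · rw [if_neg hij]
        rw [show Nat.beq i j = false from Bool.eq_false_iff.2 fun hb => hij (Nat.eq_of_beq_eq_true hb),
          cond_false] at he
        apply C.inj
        have e1 := hcode [i, j]
        have e2 := hcode (j :: A.R.rhs i j)
        simp only [prodT_cons] at e2
        simp only [prodT, List.map_cons, List.map_nil, List.prod_cons, List.prod_nil, mul_one] at e1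
        rw [e1, e2]
        exact Nat.eq_of_beq_eq_true he
  have hzπ : ∀ n, π (z n) = 1 := by
    intro n
    simp only [z]
    cases hq : (rulePairs A.R.k)[n]? with
    | none => simp
    | some q =>
      obtain ⟨i, j⟩ := q
      obtain ⟨hj, hi⟩ := hpairs n _ hq
      have he := (hrule i j hj hi).2.2
      dsimp only
      by_cases hij : i = j
      · rw [if_pos hij] at he ⊢
        rw [map_mul, map_inv, he, inv_mul_cancel]
      · rw [if_neg hij] at he ⊢
        rw [map_mul, map_inv, he, inv_mul_cancel]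
  have hlift : IsLift A.R t z := by
    refine ⟨fun n => hker _ (hzπ n), fun i hi => ?_, fun i j hj hi => ?_, hp.pos⟩
    · simp [z, (hrule i i le_rfl hi).2.1]
    · simp [z, (hrule i j hj.le hi).2.1, show i ≠ j by omega, mul_assoc]
  -- the additive group of central elements
  let Z := Subgroup.center (Γ × Multiplicative (ℕ → ℤ))
  letI : CommGroup Z :=
    { (inferInstance : Group Z) with
      mul_comm := fun a b => Subtype.ext (Subgroup.mem_center_iff.1 b.2 a.1) }
  let ζ : ℕ → Additive Z := fun n => Additive.ofMul ⟨z n, hlift.central n⟩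
  let d : Additive Z →+ (ℕ → ℤ) := MonoidHom.toAdditiveLeft ((MonoidHom.snd _ _).comp Z.subtype)
  have hζ : ∀ u : List ℕ, evalV ζ (natV u) = Additive.ofMul ⟨prodT z u, prodT_mem_center hlift u⟩ := by
    intro u
    rw [evalV_natV]
    induction u with
    | nil => rfl
    | cons a u ih =>
      rw [List.map_cons, List.sum_cons, ih]
      rfl
  have hrow : ∀ {pos neg : List ℕ} {row : List ℤ}, rowOK pos neg row = true →
      prodT z pos = prodT z neg → evalV ζ row = 0 := by
    intro pos neg row h e
    rw [← evalV_eqV ζ _ _ h, evalV_addV, evalV_smulV, hζ, hζ]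
    rw [neg_one_zsmul, add_neg_eq_zero]
    exact congrArg Additive.ofMul (Subtype.ext e)
  have hcen := fun u => Subgroup.mem_center_iff.1 (prodT_mem_center hlift u)
  have hrows : ∀ v ∈ A.eqns.map Prod.snd, evalV ζ v = 0 := by
    intro v hv
    obtain ⟨⟨q, row⟩, hmem, rfl⟩ := List.mem_map.1 hv
    have hq := List.all_eq_true.1 h2 _ hmem
    cases q with
    | cons u w x =>
      simp only [eqnCheck] at hq
      have s1 := ev_sound hlift u []
      have s2 := ev_sound hlift w []
      have s3 := ev_sound hlift u x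
      have s4 := ev_sound hlift w x
      cases e1 : ev A.R u [] with | mk a v1 =>
      cases e2 : ev A.R w [] with | mk a' v2 =>
      cases e3 : ev A.R u x with | mk b u1 =>
      cases e4 : ev A.R w x with | mk b' u2 =>
      simp only [e1, e2, e3, e4, Bool.and_eq_true] at hq
      simp only [e1] at s1
      simp only [e2] at s2
      simp only [e3] at s3
      simp only [e4] at s4
      obtain ⟨⟨ha, hb⟩, hr⟩ := hq
      obtain rfl := natListEq_eq ha
      obtain rfl := natListEq_eq hb
      refine hrow hr ?_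
      rw [show prodT t ([] : List ℕ) = 1 from rfl, mul_one] at s1 s2
      rw [s1] at s3
      rw [s2] at s4
      simp only [prodT_append]
      -- a v1 x = b u1 and a v2 x = b u2
      have k3 : prodT t a * prodT t x = prodT t b * (prodT z u1 * (prodT z v1)⁻¹) := by
        rw [← mul_assoc, ← s3, mul_assoc _ (prodT z v1), ← hcen v1 (prodT t x)]
        group
      have k4 : prodT t a * prodT t x = prodT t b * (prodT z u2 * (prodT z v2)⁻¹) := by
        rw [← mul_assoc, ← s4, mul_assoc _ (prodT z v2), ← hcen v2 (prodT t x)]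
        group
      have k := mul_left_cancel (k3.symm.trans k4)
      calc prodT z u1 * prodT z v2
          = prodT z u1 * (prodT z v1)⁻¹ * (prodT z v1 * prodT z v2) := by group
        _ = prodT z u2 * (prodT z v2)⁻¹ * (prodT z v2 * prodT z v1) := by rw [k, ← hcen v1 (prodT z v2)]
        _ = prodT z u2 * prodT z v1 := by group
    | fus a b a' b' gp =>
      simp only [eqnCheck, forceNat_eq] at hq
      have s1 := ev_sound hlift a b
      have s2 := ev_sound hlift b a
      have s3 := ev_sound hlift a' b'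
      have s4 := ev_sound hlift b' a'
      cases e1 : ev A.R a b with | mk e1' u1 =>
      cases e2 : ev A.R b a with | mk e2' u2 =>
      cases e3 : ev A.R a' b' with | mk f1 w1 =>
      cases e4 : ev A.R b' a' with | mk f2 w2 =>
      simp only [e1, e2, e3, e4, Bool.and_eq_true] at hq
      simp only [e1] at s1
      simp only [e2] at s2
      simp only [e3] at s3
      simp only [e4] at s4
      obtain ⟨⟨hca, hcb⟩, ⟨hab, hab'⟩, hr⟩ := hq
      obtain rfl := natListEq_eq hab
      obtain rfl := natListEq_eq hab'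
      refine hrow hr ?_
      simp only [prodT_append]
      obtain ⟨c, hcS, ec, -⟩ := pairOK_pathEval C hS hL gp
      obtain ⟨cΓ, ecΓ⟩ := hσ ⟨c, hcS⟩
      let ĉ : Γ × Multiplicative (ℕ → ℤ) := (cΓ, 1)
      have hπc : π ĉ = c := by simp [π, ĉ, ecΓ]
      have hconj : ∀ u u' : List ℕ,
          Nat.beq (O.mul (pathEval O L gp).1 (codeW O A.X u))
            (O.mul (codeW O A.X u') (pathEval O L gp).1) = true →
          ∃ k ∈ Subgroup.center (Γ × Multiplicative (ℕ → ℤ)),
            prodT t u' = ĉ * prodT t u * ĉ⁻¹ * k := by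
        intro u u' h
        refine ⟨(ĉ * prodT t u * ĉ⁻¹)⁻¹ * prodT t u', hker _ ?_, by group⟩
        have h := Nat.eq_of_beq_eq_true h
        rw [← ec, ← hcode, ← hcode, C.mul_enc, C.mul_enc] at h
        have h := C.inj h
        rw [map_mul, map_inv, map_mul, map_mul, map_inv, hπc, h]
        group
      obtain ⟨ka, hka, ea⟩ := hconj a a' hca
      obtain ⟨kb, hkb, eb⟩ := hconj b b' hcb
      have hcomm : ∀ {x y : Γ × Multiplicative (ℕ → ℤ)} {e v1 v2 : List ℕ},
          x * y = prodT t e * prodT z v1 → y * x = prodT t e * prodT z v2 →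
          ⁅x, y⁆ = prodT z v1 * (prodT z v2)⁻¹ := by
        intro x y e v1 v2 h h'
        have hm : prodT z v1 * (prodT z v2)⁻¹ ∈ Subgroup.center _ :=
          Subgroup.mul_mem _ (prodT_mem_center hlift _) (Subgroup.inv_mem _ (prodT_mem_center hlift _))
        rw [commutatorElement_def, show x * y * x⁻¹ * y⁻¹ = x * y * (y * x)⁻¹ by group, h, h',
          show prodT t e * prodT z v1 * (prodT t e * prodT z v2)⁻¹ =
            prodT t e * (prodT z v1 * (prodT z v2)⁻¹) * (prodT t e)⁻¹ by group,
          Subgroup.mem_center_iff.1 hm (prodT t e), mul_inv_cancel_right]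
      have c1 := hcomm s1 s2
      have c2 := hcomm s3 s4
      rw [ea, eb, Schur.commutatorElement_mul_central _ _ hka hkb,
        show ⁅ĉ * prodT t a * ĉ⁻¹, ĉ * prodT t b * ĉ⁻¹⁆ = ĉ * ⁅prodT t a, prodT t b⁆ * ĉ⁻¹ by
          simp only [commutatorElement_def]; group, c1] at c2
      have hk : prodT z u1 * (prodT z u2)⁻¹ = prodT z w1 * (prodT z w2)⁻¹ := by
        have hm : prodT z u1 * (prodT z u2)⁻¹ ∈ Subgroup.center _ :=
          Subgroup.mul_mem _ (prodT_mem_center hlift _) (Subgroup.inv_mem _ (prodT_mem_center hlift _))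
        rw [Subgroup.mem_center_iff.1 hm ĉ, mul_inv_cancel_right] at c2
        exact c2
      calc prodT z u1 * prodT z w2
          = prodT z u1 * (prodT z u2)⁻¹ * (prodT z u2 * prodT z w2) := by group
        _ = prodT z w1 * (prodT z w2)⁻¹ * (prodT z w2 * prodT z u2) := by rw [hk, ← hcen u2 (prodT z w2)]
        _ = prodT z u2 * prodT z w1 := by
          rw [show prodT z w1 * (prodT z w2)⁻¹ * (prodT z w2 * prodT z u2) =
            prodT z w1 * prodT z u2 by group, hcen u2]
  -- linear part
  simp only [linCheck, Bool.and_eq_true, List.all_eq_true, List.mem_range, decide_eq_true_eq] at h3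
  obtain ⟨⟨⟨⟨⟨⟨hLlen, hUlen⟩, hr⟩, hunits⟩, hrT⟩, hdT⟩, htri⟩ := h3
  have hLlen := Nat.eq_of_beq_eq_true hLlen
  have hUlen := Nat.eq_of_beq_eq_true hUlen
  let τ : Additive Z := evalV ζ A.T
  let Φ : (Fin A.R.k → ℤ) × ℤ →+ Additive Z :=
    { toFun := fun m => (∑ l, m.1 l • evalV ζ (A.L.getD l [])) + m.2 • τ
      map_zero' := by simp
      map_add' := fun m m' => by
        simp only [Prod.fst_add, Prod.snd_add, Pi.add_apply, add_smul, Finset.sum_add_distrib]
        abel }
  have hζmem : ∀ n, ζ n ∈ Φ.range := by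
    intro n
    by_cases hn : n < A.units.length
    · have h := hunits n hn
      rw [List.getElem?_eq_getElem hn] at h
      cases hu : A.units[n] with | mk cs q =>
      obtain ⟨ms, b⟩ := q
      simp only [hu] at h
      have h := evalV_eqV ζ _ _ h
      rw [evalV_unitV, evalV_addV, evalV_addV, evalV_smulV, evalV_combo_zero ζ cs _ hrows, zero_add] at h
      rw [← h]
      refine add_mem (evalV_combo_mem ζ Φ.range ms A.L fun v hv => ?_)
        (⟨(0, b), by simp [Φ, τ]⟩)
      obtain ⟨l, hl, rfl⟩ := List.getElem_of_mem hv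
      refine ⟨(Pi.single ⟨l, hLlen ▸ hl⟩ 1, 0), ?_⟩
      simp [Φ, Pi.single_apply, ite_smul, List.getElem?_eq_getElem hl]
    · refine ⟨0, ?_⟩
      rw [map_zero]
      refine Eq.symm ?_
      show Additive.ofMul (⟨z n, _⟩ : Z) = 0
      have hz1 : z n = 1 := by
        simp only [z]
        rw [List.getElem?_eq_none (by omega)]
      exact congrArg Additive.ofMul (Subtype.ext hz1)
  have hdz : ∀ n, d (ζ n) = degTail A.R n := by
    intro n
    have hsnd : ∀ u : List ℕ, (∀ a ∈ u, a < A.R.k) →
        (prodT t u).2.toAdd = fun c => (u.count c : ℤ) := by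
      intro u
      induction u with
      | nil => intro _; funext c; simp [prodT]
      | cons a u ih =>
        intro hu
        funext c
        have := congrFun (ih fun b hb => hu b (List.mem_cons_of_mem _ hb)) c
        simp only [prodT_cons, Prod.snd_mul, toAdd_mul, Pi.add_apply, this]
        simp [t, hu a (List.mem_cons_self ..), Pi.single_apply, List.count_cons, eq_comm (a := c)]
        split <;> simp_all <;> omega
    show (z n).2.toAdd = _
    funext c
    simp only [degTail, z]
    cases hq : (rulePairs A.R.k)[n]? with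
    | none => simp
    | some q =>
      obtain ⟨i, j⟩ := q
      obtain ⟨hj, hi⟩ := hpairs n _ hq
      have hsupp := hsnd (A.R.rhs i j) fun a ha => ((hrule i j hj hi).1 a ha).2
      dsimp only
      by_cases hij : i = j
      · subst hij
        rw [if_pos rfl, show Nat.beq i i = true from Nat.beq_refl i, cond_true]
        simp only [Prod.snd_mul, Prod.snd_inv, Prod.pow_snd, toAdd_mul, toAdd_inv, toAdd_pow,
          Pi.add_apply, Pi.neg_apply, Pi.smul_apply, hsupp, t, if_pos hi, toAdd_ofAdd]
        by_cases hci : c = i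
        · subst hci
          simp; ring
        · simp [hci, show Nat.beq c i = false from
            Bool.eq_false_iff.2 fun hb => hci (Nat.eq_of_beq_eq_true hb)]
      · rw [if_neg hij, show Nat.beq i j = false from
          Bool.eq_false_iff.2 fun hb => hij (Nat.eq_of_beq_eq_true hb), cond_false]
        simp only [Prod.snd_mul, Prod.snd_inv, toAdd_mul, toAdd_inv, Pi.add_apply, Pi.neg_apply,
          hsupp, t, if_pos hi, if_pos (show j < A.R.k by omega), toAdd_ofAdd]
        by_cases hci : c = i
        · subst hci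
          simp [Pi.single_apply, hij]; ring
        · simp [Pi.single_apply, hci, show Nat.beq c i = false from
            Bool.eq_false_iff.2 fun hb => hci (Nat.eq_of_beq_eq_true hb)]
  have hdeval : ∀ (v : List ℤ) (c : ℕ), d (evalV ζ v) c = evalV (fun n => degTail A.R n c) v := by
    intro v c
    rw [map_evalV, show (fun n => d (ζ n)) = degTail A.R from funext hdz]
    exact map_evalV (Pi.evalAddMonoidHom (fun _ : ℕ => ℤ) c) _ v
  have hrτ : A.r • τ = 0 := by
    have := evalV_eqV ζ _ _ hrT
    rw [evalV_combo_zero ζ _ _ hrows, evalV_smulV, natCast_zsmul] at this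
    exact this.symm
  refine ⟨(τ.toMul : Γ × Multiplicative (ℕ → ℤ)).1, ?_, ?_⟩
  · have := congrArg (fun a : Additive Z => (a.toMul : Γ × Multiplicative (ℕ → ℤ)).1) hrτ
    simpa using this
  -- transfer to the Sylow subgroup
  intro x hx m hm
  obtain ⟨hxk, hxd⟩ := Subgroup.mem_inf.1 hx
  have hGX : GensOK C A.X := fun q hq => PairOK.mono C le_top (hX q hq)
  have hPle : genGroup C A.X ≤ genGroup C S := by
    refine (Subgroup.closure_le _).2 ?_
    rintro h ⟨q, hq, e⟩
    obtain ⟨h', hh', e', -⟩ := hX q hq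
    rwa [C.inj (e.trans e'.symm)]
  let Ŵ : Subgroup (Γ × Multiplicative (ℕ → ℤ)) := Subgroup.closure (t '' Set.Iio A.R.k)
  have hWP : Ŵ.map π = genGroup C A.X := by
    rw [MonoidHom.map_closure]
    apply congrArg Subgroup.closure
    ext h
    simp only [Set.mem_image, Set.mem_Iio, Set.mem_ofPred_eq]
    constructor
    · rintro ⟨_, ⟨i, hi, rfl⟩, rfl⟩
      exact ⟨A.X[i]'(hlen.symm ▸ hi), List.getElem_mem _, by rw [hπt, List.getD_eq_getElem]⟩
    · rintro ⟨q, hq, e⟩
      obtain ⟨i, hi, rfl⟩ := List.getElem_of_mem hq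
      exact ⟨t i, ⟨i, hlen ▸ hi, rfl⟩, C.inj (by rw [e, hπt, List.getD_eq_getElem _ _ hi])⟩
  let Pt : Subgroup Γ := (genGroup C A.X).comap ((genGroup C S).subtype.comp σ)
  have hidx : Pt.index = chainSize L / A.R.p ^ A.R.k := by
    have hP : Pt = ((genGroup C A.X).subgroupOf (genGroup C S)).comap σ := rfl
    rw [hP, Subgroup.index_comap_of_surjective _ hσ]
    have h := Subgroup.card_mul_index ((genGroup C A.X).subgroupOf (genGroup C S))
    rw [Nat.card_congr (Subgroup.subgroupOfEquivOfLe hPle).toEquiv, card_genGroup C hGX hchP,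
      card_genGroup C hS hL, Nat.eq_of_beq_eq_true hszP] at h
    rw [← h, Nat.mul_div_cancel_left _ (pow_pos hp.pos _)]
  have hidxp : ¬ A.R.p ∣ Pt.index := by
    rw [hidx, Nat.dvd_iff_mod_eq_zero]
    intro h
    rw [h] at hndvd
    exact absurd hndvd (by decide)
  haveI : Pt.FiniteIndex := ⟨fun h0 => hidxp (h0 ▸ dvd_zero _)⟩
  have hxc : x ∈ Subgroup.center Γ := hc hxk
  have hxPt : x ∈ Pt := by
    show ((σ x : genGroup C S) : G) ∈ genGroup C A.X
    rw [MonoidHom.mem_ker.1 hxk]
    exact one_mem _
  have htr : (⟨x ^ Pt.index, Pt.pow_mem hxPt _⟩ : Pt) ∈ commutator Pt := by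
    have key : ∀ (n : ℕ) (g₀ : Γ), g₀⁻¹ * x ^ n * g₀ ∈ Pt → g₀⁻¹ * x ^ n * g₀ = x ^ n :=
      fun n g₀ _ => by
        rw [mul_assoc, ← Subgroup.mem_center_iff.1 (pow_mem hxc n) g₀, inv_mul_cancel_left]
    have h1 := MonoidHom.transfer_eq_pow (Abelianization.of : ↥Pt →* _) x key
    rw [MonoidHom.mem_ker.1 (Abelianization.commutator_subset_ker _ hxd)] at h1
    rw [← Abelianization.ker_of, MonoidHom.mem_ker]
    exact h1.symm
  have hy : x ^ Pt.index ∈ ⁅Ŵ, Ŵ⁆.map (MonoidHom.fst _ _) := by
    have h1 : x ^ Pt.index ∈ ⁅Pt, Pt⁆ := by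
      rw [← Subgroup.map_subtype_commutator]
      exact ⟨_, htr, rfl⟩
    refine (Subgroup.commutator_le.2 fun a ha b hb => ?_ : ⁅Pt, Pt⁆ ≤ _) h1
    have hsplit : ∀ c ∈ Pt, ∃ w ∈ Ŵ, ∃ k ∈ Subgroup.center Γ, c = w.1 * k := by
      intro c hc'
      have hc' : ((σ c : genGroup C S) : G) ∈ Ŵ.map π := by rw [hWP]; exact hc'
      obtain ⟨w, hw, hwc⟩ := hc'
      refine ⟨w, hw, w.1⁻¹ * c, hc ?_, by group⟩
      rw [MonoidHom.mem_ker, map_mul, map_inv, inv_mul_eq_one]
      exact Subtype.ext hwc
    obtain ⟨wa, hwa, ka, hka, rfl⟩ := hsplit a ha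
    obtain ⟨wb, hwb, kb, hkb, rfl⟩ := hsplit b hb
    rw [Schur.commutatorElement_mul_central _ _ hka hkb]
    exact ⟨⁅wa, wb⁆, Subgroup.commutator_mem_commutator hwa hwb,
      map_commutatorElement (MonoidHom.fst _ _) wa wb⟩
  obtain ⟨y, hyW, hyx⟩ := hy
  have hy2 : y.2 = 1 := by
    have h : ⁅Ŵ, Ŵ⁆ ≤ (MonoidHom.snd Γ (Multiplicative (ℕ → ℤ))).ker :=
      Subgroup.commutator_le.2 fun a _ b _ => by
        rw [MonoidHom.mem_ker, map_commutatorElement, commutatorElement_eq_one_iff_mul_comm]
        exact mul_comm _ _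
    exact h hyW
  have hyWin : y ∈ Ŵ := (Subgroup.commutator_le_self Ŵ) hyW
  have hsupp : ∀ i j, j ≤ i → i < A.R.k → ∀ a ∈ A.R.rhs i j, j < a ∧ a < A.R.k :=
    fun i j hj hi => (hrule i j hj hi).1
  let word : (Fin A.R.k → Fin A.R.p) → List ℕ := fun e =>
    (List.finRange A.R.k).flatMap fun i => List.replicate (e i : ℕ) (i : ℕ)
  have hclπ : ∀ v ∈ Subgroup.closure (Set.range z), π v = 1 := fun v hv =>
    MonoidHom.mem_ker.1 ((Subgroup.closure_le π.ker).2 (by rintro _ ⟨n, rfl⟩; exact hzπ n) hv)
  have hbij : Function.Bijective (fun e : Fin A.R.k → Fin A.R.p =>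
      (⟨π (prodT t (word e)), hWP.le ⟨_, Subgroup.list_prod_mem _ (fun a ha => by
        obtain ⟨n, hn, rfl⟩ := List.mem_map.1 ha
        simp only [word, List.mem_flatMap, List.mem_replicate] at hn
        obtain ⟨i, -, -, rfl⟩ := hn
        exact Subgroup.subset_closure ⟨_, i.isLt, rfl⟩), rfl⟩⟩ : genGroup C A.X)) := by
    refine Function.Surjective.bijective_of_nat_card_le ?_ ?_
    · rintro ⟨h, hh⟩
      rw [← hWP] at hh
      obtain ⟨w, hw, rfl⟩ := hh
      obtain ⟨e, v, hv, rfl⟩ := exists_normal hlift hsupp hw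
      exact ⟨e, Subtype.ext (by simp [map_mul, hclπ v hv, word])⟩
    · rw [card_genGroup C hGX hchP, Nat.eq_of_beq_eq_true hszP]
      simp
  obtain ⟨e, v, hv, hyev⟩ := exists_normal hlift hsupp hyWin
  haveI : NeZero A.R.p := ⟨hp.ne_zero⟩
  have hπy : π y = 1 := by
    show ((σ y.1 : genGroup C S) : G) = 1
    rw [show y.1 = x ^ Pt.index from hyx, map_pow, MonoidHom.mem_ker.1 hxk, one_pow]
    rfl
  have hw0 : word 0 = [] := List.flatMap_eq_nil_iff.2 (by simp)
  have he0 : e = 0 := by
    refine hbij.1 (Subtype.ext ?_)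
    have : π (prodT t (word e)) = 1 := by
      have h := congrArg π hyev
      rw [map_mul, hclπ v hv, mul_one, hπy] at h
      exact h.symm
    show π (prodT t (word e)) = π (prodT t (word 0))
    rw [this, hw0]
    simp [prodT]
  have hyv : y = v := by
    rw [hyev, he0, show ((List.finRange A.R.k).flatMap fun i =>
      List.replicate ((0 : Fin A.R.k → Fin A.R.p) i : ℕ) (i : ℕ)) = [] from hw0]
    simp [prodT]
  have hvmem : ∀ v ∈ Subgroup.closure (Set.range z), ∃ hv : v ∈ Z,
      Additive.ofMul (⟨v, hv⟩ : Z) ∈ Φ.range := by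
    intro v hv
    induction hv using Subgroup.closure_induction with
    | mem v hv => obtain ⟨n, rfl⟩ := hv; exact ⟨_, hζmem n⟩
    | one => exact ⟨one_mem _, zero_mem Φ.range⟩
    | mul a b _ _ ha hb => exact ⟨mul_mem ha.1 hb.1, add_mem ha.2 hb.2⟩
    | inv a _ ha => exact ⟨inv_mem ha.1, neg_mem ha.2⟩
  obtain ⟨hvZ, ⟨ms, b⟩, hmb⟩ := hvmem v hv
  have hd0 : d (Φ (ms, b)) = 0 := by
    rw [hmb]
    show (v.2).toAdd = 0
    rw [← hyv, hy2]
    rfl
  have hms : ∀ c : ℕ, ∀ hc : c < A.R.k, ms ⟨c, hc⟩ = 0 := by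
    intro c
    induction c using Nat.strong_induction_on with
    | _ c ih =>
      intro hck
      have h := congrFun hd0 c
      have e : d (Φ (ms, b)) c =
          ∑ l, ms l • evalV (fun n => degTail A.R n c) (A.L.getD l []) := by
        show d ((∑ l, ms l • evalV ζ (A.L.getD l [])) + b • evalV ζ A.T) c = _
        rw [map_add, map_sum, map_zsmul, Pi.add_apply, Pi.smul_apply, Finset.sum_apply, hdeval,
          hdT c hck, smul_zero, add_zero]
        refine Finset.sum_congr rfl fun l _ => ?_
        rw [map_zsmul, Pi.smul_apply, hdeval]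
      rw [Pi.zero_apply, e] at h
      rw [Finset.sum_eq_single ⟨c, hck⟩] at h
      · rcases smul_eq_zero.1 h with h | h
        · exact h
        · exact absurd ((htri c hck c (by omega)).1 h) (lt_irrefl c)
      · intro l _ hl
        rcases Nat.lt_or_ge l.val c with h' | h'
        · simp [ih l h' l.isLt]
        · have hne : (l : ℕ) ≠ c := fun he => hl (Fin.ext he)
          rw [(htri l l.isLt c (by omega)).2 (by omega), smul_zero]
      · simp
  have hΦ : Φ (ms, b) = b • τ := by
    have : ms = 0 := funext fun l => hms l l.isLt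
    show (∑ l, ms l • evalV ζ (A.L.getD l [])) + b • τ = b • τ
    rw [this]
    simp only [Pi.zero_apply, zero_smul, Finset.sum_const_zero, zero_add]
  have hxi : x ^ Pt.index = ((τ.toMul : Z) : Γ × Multiplicative (ℕ → ℤ)).1 ^ b := by
    rw [← hyx]
    have h2 : Additive.ofMul (⟨v, hvZ⟩ : Z) = b • τ := by rw [← hmb, hΦ]
    have h3 := congrArg (fun a : Additive Z => (a.toMul : Γ × Multiplicative (ℕ → ℤ)).1) h2
    rw [toMul_ofMul, toMul_zsmul] at h3
    rw [hyv]
    exact h3.trans (by rw [Subgroup.coe_zpow, Prod.pow_fst])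
  have hcop : Pt.index.Coprime (orderOf x) :=
    Nat.Coprime.coprime_dvd_right (orderOf_dvd_of_pow_eq_one hm)
      (Nat.Coprime.pow_right _ ((hp.coprime_iff_not_dvd.2 hidxp).symm))
  obtain ⟨n, hn⟩ := exists_pow_eq_self_of_coprime hcop
  rw [← hn, hxi]
  exact Subgroup.pow_mem _ (Subgroup.zpow_mem _ (Subgroup.mem_zpowers _) _) _

end Sound

end Cfsg.Agent.Lib.Compute.Schur
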