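import Cfsg.Prelude.Def_KGroupFacts
import Mathlib

/-! Two stem extensions with cyclic kernels of coprime orders give one with cyclic kernel of product order. -/

set_option autoImplicit false

namespace Cfsg.Agent.Lib.Compute.Schur

open Subgroup

/-- The fibre product of two maps into `Q`. -/
def fibreSub {A B Q : Type*} [Group A] [Group B] [Group Q] (f : A →* Q) (g : B →* Q) :
    Subgroup (A × B) :=
  (f.comp (MonoidHom.fst A B)).eqLocus (g.comp (MonoidHom.snd A B))

theorem exists_fibre_cover {A B Q : Type*} [Group A] [Group B] [Group Q] [Finite A] [Finite B]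
    {f : A →* Q} {g : B →* Q} (hf : Cfsg.IsStemExtension f) (hg : Cfsg.IsStemExtension g)
    [IsCyclic f.ker] [IsCyclic g.ker] (hco : (Nat.card f.ker).Coprime (Nat.card g.ker)) :
    ∃ τ : fibreSub f g →* Q, Cfsg.IsStemExtension τ ∧
      Nat.card τ.ker = Nat.card f.ker * Nat.card g.ker ∧ IsCyclic τ.ker := by
  let Z := fibreSub f g
  let τ : Z →* Q := (f.comp (MonoidHom.fst A B)).comp Z.subtype
  let pA : Z →* A := (MonoidHom.fst A B).comp Z.subtype
  let pB : Z →* B := (MonoidHom.snd A B).comp Z.subtype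
  have hpA : Function.Surjective pA := fun a => by
    obtain ⟨b, hb⟩ := hg.1 (f a)
    exact ⟨⟨(a, b), hb.symm⟩, rfl⟩
  have hpB : Function.Surjective pB := fun b => by
    obtain ⟨a, ha⟩ := hf.1 (g b)
    exact ⟨⟨(a, b), ha⟩, rfl⟩
  have hk : ∀ x : Z, x ∈ τ.ker ↔ x.1.1 ∈ f.ker ∧ x.1.2 ∈ g.ker := fun x => by
    refine ⟨fun h => ⟨h, ?_⟩, fun h => h.1⟩
    exact (x.2 : f x.1.1 = g x.1.2).symm.trans h
  let e : τ.ker ≃* f.ker × g.ker :=
    { toFun := fun x => (⟨x.1.1.1, ((hk x.1).1 x.2).1⟩, ⟨x.1.1.2, ((hk x.1).1 x.2).2⟩)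
      invFun := fun p => ⟨⟨(p.1.1, p.2.1), (p.1.2 : f p.1.1 = 1).trans (p.2.2 : g p.2.1 = 1).symm⟩, p.1.2⟩
      left_inv := fun _ => rfl
      right_inv := fun _ => rfl
      map_mul' := fun _ _ => rfl }
  have hcard : Nat.card τ.ker = Nat.card f.ker * Nat.card g.ker := by
    rw [Nat.card_congr e.toEquiv, Nat.card_prod]
  have hcyc : IsCyclic (f.ker × g.ker) := Group.isCyclic_prod_iff.mpr ⟨‹_›, ‹_›, hco⟩
  have hcommA : (commutator Z).map pA = commutator A := by
    rw [_root_.commutator_def, _root_.commutator_def, map_commutator, ← MonoidHom.range_eq_map,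
      MonoidHom.range_eq_top.2 hpA]
  have hcommB : (commutator Z).map pB = commutator B := by
    rw [_root_.commutator_def, _root_.commutator_def, map_commutator, ← MonoidHom.range_eq_map,
      MonoidHom.range_eq_top.2 hpB]
  refine ⟨τ, ⟨hf.1.comp hpA, ?_, ?_⟩, hcard,
    e.isCyclic.2 hcyc⟩
  · intro x hx
    obtain ⟨h1, h2⟩ := (hk x).1 hx
    exact mem_center_iff.2 fun y => Subtype.ext (Prod.ext (mem_center_iff.1 (hf.2.1 h1) y.1.1)
      (mem_center_iff.1 (hg.2.1 h2) y.1.2))
  · intro x hx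
    obtain ⟨h1, h2⟩ := (hk x).1 hx
    -- each kernel is reached by the `n`-th powers of its own elements
    have hA : (x.1.1, (1 : B)) ∈ (commutator Z).map Z.subtype := by
      obtain ⟨a, ha⟩ := (powCoprime hco).surjective ⟨x.1.1, h1⟩
      obtain ⟨y, hy, hya⟩ : (a : A) ∈ (commutator Z).map pA := by
        rw [hcommA]; exact hf.2.2 a.2
      have hy2 : y.1.2 ∈ g.ker := by
        show g y.1.2 = 1
        have hy' : f y.1.1 = g y.1.2 := y.2
        rw [← hy', show y.1.1 = (a : A) from hya]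
        exact a.2
      refine ⟨y ^ Nat.card g.ker, pow_mem hy _, Prod.ext ?_ ?_⟩
      · show y.1.1 ^ Nat.card g.ker = x.1.1
        rw [show y.1.1 = (a : A) from hya]
        exact congrArg Subtype.val ha
      · exact congrArg Subtype.val (pow_card_eq_one' (x := (⟨y.1.2, hy2⟩ : g.ker)))
    have hB : ((1 : A), x.1.2) ∈ (commutator Z).map Z.subtype := by
      obtain ⟨b, hb⟩ := (powCoprime hco.symm).surjective ⟨x.1.2, h2⟩
      obtain ⟨y, hy, hyb⟩ : (b : B) ∈ (commutator Z).map pB := by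
        rw [hcommB]; exact hg.2.2 b.2
      have hy1 : y.1.1 ∈ f.ker := by
        show f y.1.1 = 1
        have hy' : f y.1.1 = g y.1.2 := y.2
        rw [hy', show y.1.2 = (b : B) from hyb]
        exact b.2
      refine ⟨y ^ Nat.card f.ker, pow_mem hy _, Prod.ext ?_ ?_⟩
      · exact congrArg Subtype.val (pow_card_eq_one' (x := (⟨y.1.1, hy1⟩ : f.ker)))
      · show y.1.2 ^ Nat.card f.ker = x.1.2
        rw [show y.1.2 = (b : B) from hyb]
        exact congrArg Subtype.val hb
    obtain ⟨u, hu, hux⟩ : x.1 ∈ (commutator Z).map Z.subtype := by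
      have := mul_mem hA hB
      simpa using this
    exact (Subtype.ext hux : u = x) ▸ hu

end Cfsg.Agent.Lib.Compute.Schur
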