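import Cfsg.Agent.Lib.Compute.Schur.Cert

/-!
# A faster form of the linear part of a multiplier certificate

Vectors with small entries are compared through their values at `2 ^ 64`, so that a combination costs one
multiplication per coefficient; degree evaluations skip zero entries.
-/

set_option autoImplicit false

namespace Cfsg.Agent.Lib.Compute.Schur

/-- The base. -/
def vBase : ℤ := 18446744073709551616

/-- Bound for packed entries. -/
def vLim : ℤ := 4611686018427387904

/-- Bound for the entries of the given rows. -/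
def vEnt : ℤ := 1099511627776

/-- The value at the base. -/
def pkV : List ℤ → ℤ
  | [] => 0
  | a :: v => a + vBase * pkV v

/-- Combination of packed vectors. -/
def pkDot : List ℤ → List ℤ → ℤ
  | [], _ => 0
  | _ :: _, [] => 0
  | c :: cs, z :: zs => bif decide (c = 0) then pkDot cs zs else c * z + pkDot cs zs

/-- All entries are at most `M` in absolute value. -/
def SmallV (M : ℤ) (v : List ℤ) : Prop := ∀ a ∈ v, -M ≤ a ∧ a ≤ M

/-- Boolean form. -/
def smallCheck (M : ℤ) (v : List ℤ) : Bool := v.all fun a => decide (-M ≤ a) && decide (a ≤ M)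

theorem smallCheck_sound {M : ℤ} {v : List ℤ} (h : smallCheck M v = true) : SmallV M v := fun a ha => by
  simpa [smallCheck] using List.all_eq_true.1 h a ha

/-- Sum of absolute values. -/
def oneNorm : List ℤ → ℤ
  | [] => 0
  | a :: v => (a.natAbs : ℤ) + oneNorm v

theorem oneNorm_nonneg : ∀ v : List ℤ, 0 ≤ oneNorm v
  | [] => le_refl _
  | a :: v => add_nonneg (Int.natCast_nonneg _) (oneNorm_nonneg v)

theorem SmallV.mono {M M' : ℤ} {v : List ℤ} (h : SmallV M v) (hM : M ≤ M') : SmallV M' v :=
  fun a ha => ⟨by linarith [(h a ha).1], by linarith [(h a ha).2]⟩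

theorem SmallV.nil (M : ℤ) : SmallV M [] := fun a ha => absurd ha List.not_mem_nil

theorem SmallV.addV : ∀ {M N : ℤ} {u v : List ℤ}, 0 ≤ M → 0 ≤ N → SmallV M u → SmallV N v →
    SmallV (M + N) (Schur.addV u v)
  | M, N, [], v, hM, _, _, hv => by simpa [Schur.addV] using hv.mono (le_add_of_nonneg_left hM)
  | M, N, a :: u, [], _, hN, hu, _ => by
    simpa [Schur.addV] using hu.mono (le_add_of_nonneg_right hN)
  | M, N, a :: u, b :: v, hM, hN, hu, hv => by
    intro c hc
    simp only [Schur.addV, List.mem_cons] at hc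
    rcases hc with rfl | hc
    · have h1 := hu a List.mem_cons_self
      have h2 := hv b List.mem_cons_self
      constructor <;> linarith [h1.1, h1.2, h2.1, h2.2]
    · exact SmallV.addV hM hN (fun x hx => hu x (List.mem_cons_of_mem _ hx))
        (fun x hx => hv x (List.mem_cons_of_mem _ hx)) c hc

theorem SmallV.smulV {M : ℤ} {v : List ℤ} (c : ℤ) (hv : SmallV M v) :
    SmallV ((c.natAbs : ℤ) * M) (Schur.smulV c v) := by
  intro x hx
  obtain ⟨a, ha, rfl⟩ := List.mem_map.1 hx
  have h := hv a ha
  have h1 : |a| ≤ M := abs_le.2 h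
  have h2 : |c * a| ≤ (c.natAbs : ℤ) * M := by
    rw [abs_mul, Int.abs_eq_natAbs c]
    exact mul_le_mul_of_nonneg_left h1 (Int.natCast_nonneg _)
  exact abs_le.1 h2

theorem SmallV.combo {M : ℤ} (hM : 0 ≤ M) : ∀ (cs : List ℤ) (vs : List (List ℤ)),
    (∀ v ∈ vs, SmallV M v) → SmallV (oneNorm cs * M) (Schur.combo cs vs)
  | [], _, _ => SmallV.nil _
  | _ :: _, [], _ => SmallV.nil _
  | c :: cs, v :: vs, h => by
    have ih := SmallV.combo hM cs vs fun w hw => h w (List.mem_cons_of_mem _ hw)
    simp only [Schur.combo]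
    cases decide (c = 0) with
    | true =>
      exact ih.mono (mul_le_mul_of_nonneg_right (le_add_of_nonneg_left (Int.natCast_nonneg _)) hM)
    | false =>
      rw [cond_false, oneNorm, add_mul]
      exact SmallV.addV (mul_nonneg (Int.natCast_nonneg _) hM) (mul_nonneg (oneNorm_nonneg _) hM)
        (SmallV.smulV c (h v List.mem_cons_self)) ih

theorem pkV_addV : ∀ u v : List ℤ, pkV (Schur.addV u v) = pkV u + pkV v
  | [], v => by simp [Schur.addV, pkV]
  | a :: u, [] => by simp [Schur.addV, pkV]
  | a :: u, b :: v => by simp only [Schur.addV, pkV, pkV_addV u v]; ring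

theorem pkV_smulV (c : ℤ) : ∀ v : List ℤ, pkV (Schur.smulV c v) = c * pkV v
  | [] => by simp [Schur.smulV, pkV]
  | a :: v => by
    have := pkV_smulV c v
    simp only [Schur.smulV] at this
    simp only [Schur.smulV, List.map_cons, pkV, this]
    ring

theorem pkV_combo : ∀ (cs : List ℤ) (vs : List (List ℤ)),
    pkV (Schur.combo cs vs) = pkDot cs (vs.map pkV)
  | [], _ => by simp [Schur.combo, pkDot, pkV]
  | _ :: _, [] => by simp [Schur.combo, pkDot, pkV]
  | c :: cs, v :: vs => by
    simp only [Schur.combo, List.map_cons, pkDot]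
    cases decide (c = 0) with
    | true => exact pkV_combo cs vs
    | false => rw [cond_false, cond_false, pkV_addV, pkV_smulV, pkV_combo cs vs]

theorem small_head {a : ℤ} {w : ℤ} (ha : -vLim ≤ a ∧ a ≤ vLim) (hw : a + vBase * w = 0) : a = 0 := by
  simp only [vLim, vBase] at *
  omega

theorem eqV_of_pkV : ∀ {u v : List ℤ}, SmallV vLim u → SmallV vLim v → pkV u = pkV v →
    Schur.eqV u v = true
  | [], [], _, _, _ => rfl
  | [], b :: v, _, hv, h => by
    have hb := hv b List.mem_cons_self
    simp only [pkV] at h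
    have hb0 : b = 0 := small_head hb h.symm
    have hv0 : pkV v = 0 := by
      simp only [hb0, zero_add, vBase] at h
      omega
    have ih := eqV_of_pkV (u := []) (v := v) (SmallV.nil _)
      (fun x hx => hv x (List.mem_cons_of_mem _ hx)) (by simp [pkV, hv0])
    simp only [Schur.eqV] at ih ⊢
    simp [List.all_cons, hb0, ih]
  | a :: u, [], hu, _, h => by
    have ha := hu a List.mem_cons_self
    simp only [pkV] at h
    have ha0 : a = 0 := small_head ha h
    have hu0 : pkV u = 0 := by
      simp only [ha0, zero_add, vBase] at h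
      omega
    have ih := eqV_of_pkV (u := u) (v := []) (fun x hx => hu x (List.mem_cons_of_mem _ hx))
      (SmallV.nil _) (by simp [pkV, hu0])
    simp [Schur.eqV, ha0, ih]
  | a :: u, b :: v, hu, hv, h => by
    have ha := hu a List.mem_cons_self
    have hb := hv b List.mem_cons_self
    simp only [pkV, vBase, vLim] at h ha hb
    have hab : a = b := by omega
    have ih := eqV_of_pkV (u := u) (v := v) (fun x hx => hu x (List.mem_cons_of_mem _ hx))
      (fun x hx => hv x (List.mem_cons_of_mem _ hx)) (by omega)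
    simp [Schur.eqV, hab, ih]

/-- Power of the base. -/
def pkUnit : ℕ → ℤ
  | 0 => 1
  | n + 1 => vBase * pkUnit n

theorem pkV_unitV : ∀ n, pkV (unitV n) = pkUnit n
  | 0 => by simp [unitV, pkV, pkUnit]
  | n + 1 => by simp [unitV, pkV, pkUnit, pkV_unitV n]

theorem smallV_unitV : ∀ n, SmallV vLim (unitV n)
  | 0 => by
    intro a ha
    simp [unitV] at ha
    simp [ha, vLim]
  | n + 1 => by
    intro a ha
    simp only [unitV, List.mem_cons] at ha
    rcases ha with rfl | ha
    · simp [vLim]
    · exact smallV_unitV n a ha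

/-- Equality of lists of integers. -/
def intListEq : List ℤ → List ℤ → Bool
  | [], [] => true
  | a :: u, b :: v => decide (a = b) && intListEq u v
  | _, _ => false

theorem intListEq_eq : ∀ {u v : List ℤ}, intListEq u v = true → u = v
  | [], [], _ => rfl
  | [], _ :: _, h => by simp [intListEq] at h
  | _ :: _, [], h => by simp [intListEq] at h
  | a :: u, b :: v, h => by
    simp only [intListEq, Bool.and_eq_true, decide_eq_true_eq] at h
    rw [h.1, intListEq_eq h.2]

/-- Packed rows agree with the given literals and have small entries. -/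
def packCheck (rows : List (List ℤ)) (Z : List ℤ) : Bool :=
  intListEq (rows.map pkV) Z && rows.all (smallCheck vEnt)

/-- One unit. -/
def unitOK (ZR ZL : List ℤ) (T : List ℤ) (n : ℕ) (q : List ℤ × List ℤ × ℤ) : Bool :=
  decide (pkDot q.1 ZR + (pkDot q.2.1 ZL + q.2.2 * pkV T) = pkUnit n) &&
    decide ((oneNorm q.1 + (oneNorm q.2.1 + q.2.2.natAbs)) * vEnt ≤ vLim)

/-- All units, counted from `n`. -/
def unitsOK (ZR ZL : List ℤ) (T : List ℤ) : ℕ → List (List ℤ × List ℤ × ℤ) → Bool
  | _, [] => true
  | n, q :: qs => unitOK ZR ZL T n q && unitsOK ZR ZL T (n + 1) qs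

theorem unitsOK_get {ZR ZL T : List ℤ} : ∀ {qs : List (List ℤ × List ℤ × ℤ)} {n : ℕ},
    unitsOK ZR ZL T n qs = true → ∀ i (hi : i < qs.length), unitOK ZR ZL T (n + i) qs[i] = true
  | [], _, _, i, hi => absurd hi (Nat.not_lt_zero i)
  | q :: qs, n, h, i, hi => by
    simp only [unitsOK, Bool.and_eq_true] at h
    cases i with
    | zero => simpa using h.1
    | succ i =>
      have := unitsOK_get h.2 i (by simpa using hi)
      rw [show n + 1 + i = n + (i + 1) by omega] at this
      simpa using this

/-- Evaluation skipping zero entries. -/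
def evalS (f : ℕ → ℤ) : ℕ → List ℤ → ℤ
  | _, [] => 0
  | i, a :: v => bif decide (a = 0) then evalS f (i + 1) v else a * f i + evalS f (i + 1) v

theorem evalS_eq : ∀ (f : ℕ → ℤ) (i : ℕ) (v : List ℤ),
    evalS f i v = evalV (fun n => f (i + n)) v
  | _, _, [] => rfl
  | f, i, a :: v => by
    have e : (fun n => f (i + (n + 1))) = fun n => f (i + 1 + n) := funext fun n => by
      rw [show i + (n + 1) = i + 1 + n by omega]
    simp only [evalS, evalV, add_zero, e, ← evalS_eq f (i + 1) v, smul_eq_mul]
    by_cases ha : a = 0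
    · simp [ha]
    · simp [ha]

theorem evalS_zero (f : ℕ → ℤ) (v : List ℤ) : evalS f 0 v = evalV f v := by
  rw [evalS_eq]
  congr 1
  funext n
  rw [zero_add]

/-- Degree conditions. -/
def degCheck (A : SchurCert) : Bool :=
  ((List.range A.R.k).all fun c => decide (evalS (fun n => degTail A.R n c) 0 A.T = 0)) &&
  ((List.range A.R.k).all fun l => (List.range (l + 1)).all fun c =>
    decide ((evalS (fun n => degTail A.R n c) 0 (A.L.getD l []) = 0) ↔ c < l))

/-- The linear part, fast. -/
def fastLin (A : SchurCert) (ZR ZL : List ℤ) : Bool :=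
  Nat.beq A.L.length A.R.k && Nat.beq A.units.length (rulePairs A.R.k).length && Nat.blt 0 A.r &&
  packCheck (A.eqns.map Prod.snd) ZR && packCheck A.L ZL && smallCheck vEnt A.T &&
  unitsOK ZR ZL A.T 0 A.units &&
  eqV (combo A.rT (A.eqns.map Prod.snd)) (smulV (A.r : ℤ) A.T) && degCheck A

theorem linCheck_of_fastLin {A : SchurCert} {ZR ZL : List ℤ} (h : fastLin A ZR ZL = true) :
    linCheck A = true := by
  simp only [fastLin, packCheck, degCheck, Bool.and_eq_true, evalS_zero] at h
  obtain ⟨⟨⟨⟨⟨⟨⟨⟨h1, h2⟩, h3⟩, hR, hRs⟩, hL, hLs⟩, hT⟩, hU⟩, hrT⟩, hd1, hd2⟩ := h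
  simp only [linCheck, Bool.and_eq_true]
  refine ⟨⟨⟨⟨⟨⟨h1, h2⟩, h3⟩, ?_⟩, hrT⟩, hd1⟩, hd2⟩
  refine List.all_eq_true.2 fun n hn => ?_
  have hn : n < A.units.length := List.mem_range.1 hn
  rw [List.getElem?_eq_getElem hn]
  have hu := unitsOK_get hU n hn
  rw [zero_add] at hu
  rcases hq : A.units[n] with ⟨cs, ms, b⟩
  rw [hq] at hu
  simp only [unitOK, Bool.and_eq_true, decide_eq_true_eq] at hu
  obtain ⟨he, hb⟩ := hu
  rw [← intListEq_eq hR, ← intListEq_eq hL, ← pkV_combo, ← pkV_combo, ← pkV_smulV, ← pkV_addV,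
    ← pkV_addV, ← pkV_unitV] at he
  refine eqV_of_pkV (SmallV.mono ?_ hb) (smallV_unitV n) he
  have hM : (0 : ℤ) ≤ vEnt := by norm_num [vEnt]
  rw [add_mul, add_mul]
  refine SmallV.addV (mul_nonneg (oneNorm_nonneg _) hM)
    (add_nonneg (mul_nonneg (oneNorm_nonneg _) hM) (mul_nonneg (Int.natCast_nonneg _) hM))
    (SmallV.combo hM _ _ fun v hv => smallCheck_sound (List.all_eq_true.1 hRs v hv)) ?_
  exact SmallV.addV (mul_nonneg (oneNorm_nonneg _) hM) (mul_nonneg (Int.natCast_nonneg _) hM)
    (SmallV.combo hM _ _ fun v hv => smallCheck_sound (List.all_eq_true.1 hLs v hv))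
    (SmallV.smulV b (smallCheck_sound hT))

end Cfsg.Agent.Lib.Compute.Schur
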