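import Cfsg.Agent.Lib.Compute.Schur.FastLin

/-! Joining packed row checks. -/

set_option autoImplicit false

namespace Cfsg.Agent.Lib.Compute.Schur

theorem intListEq_refl : ∀ u : List ℤ, intListEq u u = true
  | [] => rfl
  | a :: u => by simp [intListEq, intListEq_refl u]

theorem packCheck_append {a b : List (List ℤ)} {za zb : List ℤ} (ha : packCheck a za = true)
    (hb : packCheck b zb = true) : packCheck (a ++ b) (za ++ zb) = true := by
  simp only [packCheck, Bool.and_eq_true] at ha hb ⊢
  exact ⟨by rw [List.map_append, intListEq_eq ha.1, intListEq_eq hb.1]; exact intListEq_refl _,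
    by simp [List.all_append, ha.2, hb.2]⟩

theorem fastLin_of_parts {A : SchurCert} {ZR ZL : List ℤ}
    (h1 : (Nat.beq A.L.length A.R.k && Nat.beq A.units.length (rulePairs A.R.k).length && Nat.blt 0 A.r) = true)
    (h2 : packCheck (A.eqns.map Prod.snd) ZR = true) (h3 : packCheck A.L ZL = true)
    (h4 : smallCheck vEnt A.T = true) (h5 : unitsOK ZR ZL A.T 0 A.units = true)
    (h6 : eqV (combo A.rT (A.eqns.map Prod.snd)) (smulV (A.r : ℤ) A.T) = true)
    (h7 : degCheck A = true) : fastLin A ZR ZL = true := by
  simp only [fastLin, h1, h2, h3, h4, h5, h6, h7, Bool.and_self]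

end Cfsg.Agent.Lib.Compute.Schur
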