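import Cfsg.Agent.Lib.J3Mult58.Cert
import Cfsg.Agent.Lib.Compute.Schur.Bound

/-! Bounds on multipliers from certificates with elements given by words. -/

set_option autoImplicit false

namespace Cfsg.Agent.Lib.Compute.Schur

open Cfsg.Agent.Lib.J3Mult58

universe u

variable {G : Type u} [Group G] [Finite G] {O : Ops} (C : Coding G O)

/-- The word-based certificate check. -/
noncomputable def certCheckW (O : Ops) (wv : List ℕ → ℕ × ℕ) (N : ℕ) (A : SchurCert) : Bool :=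
  presCheckW O wv N A && eqnsCheckW O wv A && linCheck A

variable {Γ : Type*} [Group Γ] [Finite Γ]

theorem prime_pow_dvd_of_certW {S : List (ℕ × ℕ)} {wv : List ℕ → ℕ × ℕ}
    (hwv : ∀ w, PairOK C (genGroup C S) (wv w)) {N : ℕ} (hN : Nat.card (genGroup C S) = N) {A : SchurCert}
    (hp : A.R.p.Prime) (h : certCheckW O wv N A = true) {σ : Γ →* genGroup C S}
    (hσ : Cfsg.IsStemExtension σ) {k : ℕ} (hk : A.R.p ^ k ∣ Nat.card σ.ker) : A.R.p ^ k ∣ A.r := by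
  haveI := Fact.mk hp
  simp only [certCheckW, Bool.and_eq_true] at h
  obtain ⟨a, har, hmem⟩ := Cfsg.Agent.Lib.J3Mult58.exists_generator C hwv hN hp h.1.1 h.1.2 h.2 σ hσ.1 hσ.2.1
  obtain ⟨P, hP⟩ := Sylow.exists_subgroup_card_pow_prime A.R.p hk
  have hle : P.map σ.ker.subtype ≤ Subgroup.zpowers a := by
    rintro _ ⟨x, hx, rfl⟩
    refine hmem x.1 ⟨x.2, hσ.2.2 x.2⟩ k ?_
    have := orderOf_dvd_natCard (⟨x, hx⟩ : P)
    rw [hP, ← Subgroup.orderOf_coe, ← Subgroup.orderOf_coe] at this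
    exact orderOf_dvd_iff_pow_eq_one.1 this
  have h1 := Subgroup.card_dvd_of_le hle
  rw [Subgroup.card_map_of_injective σ.ker.subtype_injective, hP, Nat.card_zpowers] at h1
  exact h1.trans (orderOf_dvd_of_pow_eq_one har)

theorem card_ker_dvd_word {S : List (ℕ × ℕ)} {wv : List ℕ → ℕ × ℕ}
    (hwv : ∀ w, PairOK C (genGroup C S) (wv w)) {N : ℕ} (hN : Nat.card (genGroup C S) = N)
    (As : List SchurCert) (hA : ∀ A ∈ As, A.R.p.Prime ∧ certCheckW O wv N A = true) {n : ℕ} (hn : 0 < n)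
    (hr : ∀ A ∈ As, A.r ∣ n) (hrest : ∀ p : ℕ, p.Prime → p ^ 2 ∣ N → ∃ A ∈ As, A.R.p = p)
    {σ : Γ →* genGroup C S} (hσ : Cfsg.IsStemExtension σ) : Nat.card σ.ker ∣ n := by
  rw [Nat.dvd_iff_prime_pow_dvd_dvd]
  intro p k hp hk
  by_cases h2 : p ^ 2 ∣ N
  · obtain ⟨A, hAs, rfl⟩ := hrest p hp h2
    exact (prime_pow_dvd_of_certW C hwv hN hp (hA A hAs).2 hσ hk).trans (hr A hAs)
  · rcases Nat.eq_zero_or_pos k with rfl | hk0
    · simp
    · exact absurd ((dvd_pow_self p hk0.ne').trans hk) (not_dvd_of_sq_not_dvd C hσ hp (by rwa [hN]))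

theorem hasCyclicSchurMultiplier_of_cover_word {S : List (ℕ × ℕ)} {wv : List ℕ → ℕ × ℕ}
    (hwv : ∀ w, PairOK C (genGroup C S) (wv w)) {N : ℕ} (hN : Nat.card (genGroup C S) = N)
    (As : List SchurCert) (hA : ∀ A ∈ As, A.R.p.Prime ∧ certCheckW O wv N A = true) {n : ℕ} [NeZero n]
    (hr : ∀ A ∈ As, A.r ∣ n) (hrest : ∀ p : ℕ, p.Prime → p ^ 2 ∣ N → ∃ A ∈ As, A.R.p = p)
    {X : Type*} [Group X] [Finite X] (τ : X →* genGroup C S) (hτ : Cfsg.IsStemExtension τ)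
    [IsCyclic τ.ker] (hcard : Nat.card τ.ker = n) :
    Cfsg.HasCyclicSchurMultiplier (genGroup C S) n := by
  obtain ⟨A₀, _, _, hA₀⟩ := Cfsg.Agent.Lib.Schur.exists_hasSchurMultiplier (genGroup C S)
  have hcardA : Nat.card A₀ ∣ n := by
    obtain ⟨Γ, _, _, σ, hσ, ⟨e⟩⟩ := hA₀.1
    rw [← Nat.card_congr e.toEquiv]
    exact card_ker_dvd_word C hwv hN As hA (NeZero.pos n) hr hrest hσ
  have hker : τ.ker ⊓ commutator X = τ.ker := inf_eq_left.2 hτ.2.2
  let e : τ.ker ≃* Multiplicative (ZMod n) :=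
    mulEquivOfCyclicCardEq (by rw [hcard]; simp)
  refine Cfsg.Agent.Lib.Schur.hasSchurMultiplier_of_bound τ hτ.1 hτ.2.1
    ((MulEquiv.subgroupCongr hker).trans e).toMonoidHom (MulEquiv.surjective _) fun Y _ τ' h1 h2 => ?_
  obtain ⟨g, hg⟩ := Cfsg.Agent.Lib.Schur.exists_surjection_of_hasSchurMultiplier hA₀ τ' h1 h2
  refine (Nat.card_le_card_of_surjective g hg).trans ?_
  simpa using Nat.le_of_dvd (NeZero.pos n) hcardA

end Cfsg.Agent.Lib.Compute.Schur
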